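import Groth.Agent.CohenLib.PSLocal
import Groth.Agent.CohenLib.FlatUnramified
import Groth.Agent.AdicFSLib.BaseChange
import Mathlib.RingTheory.TensorProduct.Basic
import Mathlib.RingTheory.Localization.AtPrime.Basic

/-!
# Presentations of completed local rings after extending the ground field
-/

set_option autoImplicit false
set_option linter.style.haveILetI false
set_option maxHeartbeats 1000000

universe u

open IsLocalRing
open scoped TensorProduct

namespace ComplBCLib

variable {k A K B : Type u} [Field k] [CommRing A] [Algebra k A] [CommRing K] [Algebra k K] [CommRing B]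
  (fA : A →+* B) (fK : K →+* B) (P : Ideal (A ⊗[k] K)) [P.IsPrime] (E : B ≃+* Localization.AtPrime P)
  (hEA : ∀ a, E (fA a) = algebraMap (A ⊗[k] K) _ (a ⊗ₜ 1))
  (hEK : ∀ c, E (fK c) = algebraMap (A ⊗[k] K) _ (1 ⊗ₜ c))

include hEA hEK in
theorem hom_ext {S : Type u} [CommRing S] (φ ψ : B →+* S) (h1 : ∀ a, φ (fA a) = ψ (fA a))
    (h2 : ∀ c, φ (fK c) = ψ (fK c)) : φ = ψ := by
  have h : (φ.comp E.symm.toRingHom).comp (algebraMap (A ⊗[k] K) _) =
      (ψ.comp E.symm.toRingHom).comp (algebraMap (A ⊗[k] K) _) := by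
    refine RingHom.ext fun t => ?_
    induction t using TensorProduct.induction_on with
    | zero => rw [map_zero, map_zero]
    | tmul a c =>
      rw [show a ⊗ₜ[k] c = (a ⊗ₜ[k] 1) * (1 ⊗ₜ[k] c) by rw [Algebra.TensorProduct.tmul_mul_tmul, mul_one, one_mul]]
      rw [map_mul, map_mul]
      congr 1
      · show φ (E.symm _) = ψ (E.symm _)
        rw [← hEA, RingEquiv.symm_apply_apply, h1]
      · show φ (E.symm _) = ψ (E.symm _)
        rw [← hEK, RingEquiv.symm_apply_apply, h2]
    | add x y hx hy => rw [map_add, map_add, hx, hy]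
  have h' := IsLocalization.ringHom_ext P.primeCompl h
  refine RingHom.ext fun b => ?_
  simpa using RingHom.congr_fun h' (E b)

include hEA hEK in
theorem exists_lift {S : Type u} [CommRing S] [IsLocalRing S] (u : A →+* S) (v : K →+* S)
    (hc : ∀ c : k, u (algebraMap k A c) = v (algebraMap k K c))
    (ρ : B →+* ResidueField S) (hu : ∀ a, residue S (u a) = ρ (fA a)) (hv : ∀ c, residue S (v c) = ρ (fK c)) :
    ∃ φ : B →+* S, (∀ a, φ (fA a) = u a) ∧ ∀ c, φ (fK c) = v c := by
  letI : Algebra k S := (u.comp (algebraMap k A)).toAlgebra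
  let u' : A →ₐ[k] S := { u with commutes' := fun _ => rfl }
  let v' : K →ₐ[k] S := { v with commutes' := fun c => (hc c).symm }
  let w : A ⊗[k] K →ₐ[k] S := Algebra.TensorProduct.lift u' v' fun _ _ => Commute.all _ _
  have hw1 : ∀ a, w (a ⊗ₜ 1) = u a := fun a => by
    show Algebra.TensorProduct.lift u' v' _ (a ⊗ₜ 1) = _
    rw [Algebra.TensorProduct.lift_tmul, map_one, mul_one]
    rfl
  have hw2 : ∀ c, w (1 ⊗ₜ c) = v c := fun c => by
    show Algebra.TensorProduct.lift u' v' _ (1 ⊗ₜ c) = _
    rw [Algebra.TensorProduct.lift_tmul, map_one, one_mul]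
    rfl
  have hres : ∀ t, residue S (w t) = ρ (E.symm (algebraMap _ _ t)) := fun t => by
    induction t using TensorProduct.induction_on with
    | zero => simp only [map_zero]
    | tmul a c =>
      rw [show a ⊗ₜ[k] c = (a ⊗ₜ[k] 1) * (1 ⊗ₜ[k] c) by rw [Algebra.TensorProduct.tmul_mul_tmul, mul_one, one_mul]]
      simp only [map_mul, hw1, hw2, hu, hv]
      rw [← hEA, ← hEK, RingEquiv.symm_apply_apply, RingEquiv.symm_apply_apply]
    | add x y hx hy => simp only [map_add, hx, hy]
  have hunit : ∀ t : P.primeCompl, IsUnit (w.toRingHom t) := fun t => by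
    by_contra hn
    have h1 : residue S (w t) = 0 := (residue_eq_zero_iff _).2 hn
    rw [hres] at h1
    exact (((IsLocalization.map_units (Localization.AtPrime P) t).map E.symm).map ρ).ne_zero h1
  refine ⟨(IsLocalization.lift (S := Localization.AtPrime P) hunit).comp E.toRingHom, fun a => ?_, fun c => ?_⟩
  · show IsLocalization.lift hunit (E (fA a)) = _
    rw [hEA, IsLocalization.lift_eq]
    exact hw1 a
  · show IsLocalization.lift hunit (E (fK c)) = _
    rw [hEK, IsLocalization.lift_eq]
    exact hw2 c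

omit [P.IsPrime] in
theorem eq_of_forall_pow {T : Type u} [CommRing T] (I : Ideal T) [IsHausdorff I T] {n : ℕ} {Λ : Type u} [CommRing Λ]
    (φ ψ : MvPowerSeries (Fin n) Λ →+* T) (hφ : ∀ i, φ (MvPowerSeries.X i) ∈ I)
    (hC : ∀ c, φ (MvPowerSeries.C c) = ψ (MvPowerSeries.C c))
    (hX : ∀ i, φ (MvPowerSeries.X i) = ψ (MvPowerSeries.X i)) : φ = ψ := by
  have hle : ∀ χ : MvPowerSeries (Fin n) Λ →+* T, (∀ i, χ (MvPowerSeries.X i) ∈ I) → ∀ N : ℕ,
      ∀ f ∈ CohenLib.varsIdeal Λ n ^ N, (Ideal.Quotient.mk (I ^ N)).comp χ f = 0 := fun χ hχ N f hf => by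
    refine Ideal.Quotient.eq_zero_iff_mem.2 ?_
    have h1 : (CohenLib.varsIdeal Λ n).map χ ≤ I := by
      rw [CohenLib.varsIdeal, Ideal.map_span, Ideal.span_le]
      rintro _ ⟨_, ⟨i, rfl⟩, rfl⟩
      exact hχ i
    exact Ideal.pow_right_mono h1 N (Ideal.map_pow χ _ N ▸ Ideal.mem_map_of_mem χ hf)
  refine RingHom.ext fun f => ?_
  rw [IsHausdorff.eq_iff_smodEq (I := I)]
  intro N
  rw [SModEq.sub_mem, smul_eq_mul, Ideal.mul_top]
  have h := CohenLib.ps_hom_ext ((Ideal.Quotient.mk (I ^ N)).comp φ) ((Ideal.Quotient.mk (I ^ N)).comp ψ)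
    (fun c => congrArg _ (hC c)) (fun i => congrArg _ (hX i)) N (hle φ hφ N)
    (hle ψ (fun i => hX i ▸ hφ i) N)
  exact Ideal.Quotient.eq.1 (RingHom.congr_fun h f)

end ComplBCLib

namespace ComplBCLib

variable {k A K B : Type u} [Field k] [CommRing A] [IsLocalRing A] [IsNoetherianRing A] [Algebra k A]
  [Field K] [Algebra k K] [CommRing B] [IsLocalRing B] [IsNoetherianRing B]

/-- A Cohen presentation of the completion of `A` base changes to one of the completion of `B`. -/
theorem exists_equiv (fA : A →+* B) [IsLocalHom fA] (fK : K →+* B) (P : Ideal (A ⊗[k] K)) [P.IsPrime]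
    (E : B ≃+* Localization.AtPrime P)
    (hEA : ∀ a, E (fA a) = algebraMap (A ⊗[k] K) _ (a ⊗ₜ 1))
    (hEK : ∀ c, E (fK c) = algebraMap (A ⊗[k] K) _ (1 ⊗ₜ c))
    (hmax : (maximalIdeal A).map fA = maximalIdeal B) (n m : ℕ)
    (g : Fin m → MvPowerSeries (Fin n) (ResidueField A))
    (e : (MvPowerSeries (Fin n) (ResidueField A) ⧸ Ideal.span (Set.range g)) ≃+* AdicCompletion (maximalIdeal A) A)
    (hek : ∀ c : k, e (Ideal.Quotient.mk _ (MvPowerSeries.C (residue A (algebraMap k A c)))) =
      algebraMap A (AdicCompletion (maximalIdeal A) A) (algebraMap k A c))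
    (he : ∀ a, e (Ideal.Quotient.mk _ (MvPowerSeries.C (residue A a))) -
      algebraMap A (AdicCompletion (maximalIdeal A) A) a ∈
        (maximalIdeal A).map (algebraMap A (AdicCompletion (maximalIdeal A) A))) :
    ∃ e' : (MvPowerSeries (Fin n) (ResidueField B) ⧸
        Ideal.span (Set.range fun j => MvPowerSeries.map (ResidueField.map fA) (g j))) ≃+*
          AdicCompletion (maximalIdeal B) B,
      (∀ c : K, e' (Ideal.Quotient.mk _ (MvPowerSeries.C (residue B (fK c)))) =
        algebraMap B (AdicCompletion (maximalIdeal B) B) (fK c)) ∧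
      ∀ b, e' (Ideal.Quotient.mk _ (MvPowerSeries.C (residue B b))) -
        algebraMap B (AdicCompletion (maximalIdeal B) B) b ∈
          (maximalIdeal B).map (algebraMap B (AdicCompletion (maximalIdeal B) B)) := by
  have hk : ∀ c : k, fA (algebraMap k A c) = fK (algebraMap k K c) := fun c => E.injective (by
    rw [hEA, hEK]; congr 1; rw [Algebra.algebraMap_eq_smul_one, Algebra.algebraMap_eq_smul_one, TensorProduct.smul_tmul])
  let CA := AdicCompletion (maximalIdeal A) A
  let CB := AdicCompletion (maximalIdeal B) B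
  let cA : A →+* CA := algebraMap A CA
  let cB : B →+* CB := algebraMap B CB
  obtain ⟨iA, nA, -, hmA, -⟩ := CohenLib.completion_facts A (maximalIdeal A) (maximalIdeal.isMaximal A).ne_top
  obtain ⟨iB, nB, -, hmB, -⟩ := CohenLib.completion_facts B (maximalIdeal B) (maximalIdeal.isMaximal B).ne_top
  haveI hcB : IsAdicComplete (maximalIdeal CB) CB := by
    rw [← hmB]
    exact (IsAdicComplete.map_algebraMap_iff _ _).2
      (AdicCompletion.isAdicComplete (M := B) (IsNoetherian.noetherian _))
  let SA := MvPowerSeries (Fin n) (ResidueField A)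
  let SB := MvPowerSeries (Fin n) (ResidueField B)
  let IA : Ideal SA := Ideal.span (Set.range g)
  let QA := SA ⧸ IA
  haveI : Nontrivial QA := e.toEquiv.nontrivial
  haveI : IsLocalRing QA := IsLocalRing.of_surjective' _ Ideal.Quotient.mk_surjective
  have hXQ : ∀ i, Ideal.Quotient.mk IA (MvPowerSeries.X i) ∈ maximalIdeal QA := fun i => by
    rw [← IsLocalRing.map_maximalIdeal_of_surjective _ Ideal.Quotient.mk_surjective]
    refine Ideal.mem_map_of_mem _ ?_
    rw [CohenLib.maximalIdeal_mvPowerSeries]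
    exact Ideal.mem_sup_right (Ideal.subset_span ⟨i, rfl⟩)
  have hmE : (maximalIdeal QA).map e.toRingHom = maximalIdeal CA :=
    IsLocalRing.map_maximalIdeal_of_surjective _ e.surjective
  have hmE' : (maximalIdeal CA).map e.symm.toRingHom = maximalIdeal QA :=
    IsLocalRing.map_maximalIdeal_of_surjective _ e.symm.surjective
  let ΦA : SA →+* CA := e.toRingHom.comp (Ideal.Quotient.mk IA)
  let σA : ResidueField A →+* CA := ΦA.comp MvPowerSeries.C
  have hσA : ∀ a, σA (residue A a) - cA a ∈ maximalIdeal CA := fun a => hmA ▸ he a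
  have hxA : ∀ i, ΦA (MvPowerSeries.X i) ∈ maximalIdeal CA := fun i =>
    hmE ▸ Ideal.mem_map_of_mem e.toRingHom (hXQ i)
  have hcBmem : ∀ b ∈ maximalIdeal B, cB b ∈ maximalIdeal CB := fun b hb => hmB ▸ Ideal.mem_map_of_mem cB hb
  have hfmem : ∀ a ∈ maximalIdeal A, cB (fA a) ∈ maximalIdeal CB := fun a ha =>
    hcBmem _ (hmax ▸ Ideal.mem_map_of_mem fA ha)
  let f : CA →+* CB := CompleteLib.completionLift (maximalIdeal A) (maximalIdeal CB) (cB.comp fA)
    (Ideal.map_le_iff_le_comap.2 fun a ha => hfmem a ha)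
  have hf : ∀ a, f (cA a) = cB (fA a) := fun a => CompleteLib.completionLift_algebraMap _ _ _ _ a
  have hfmax : ∀ x ∈ maximalIdeal CA, f x ∈ maximalIdeal CB := fun x hx => by
    have h1 : (maximalIdeal CA).map f ≤ maximalIdeal CB := by
      rw [← hmA, Ideal.map_map, Ideal.map_le_iff_le_comap]
      exact fun a ha => Ideal.mem_comap.2 (by rw [RingHom.comp_apply, hf]; exact hfmem a ha)
    exact h1 (Ideal.mem_map_of_mem f hx)
  -- the coefficient field of the completion of `B`
  obtain ⟨φ, hφA, hφK⟩ := exists_lift fA fK P E hEA hEK (S := CB) ((f.comp σA).comp (residue A)) (cB.comp fK)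
    (fun c => by
      show f (σA (residue A (algebraMap k A c))) = cB (fK (algebraMap k K c))
      rw [show σA (residue A (algebraMap k A c)) = cA (algebraMap k A c) from hek c, hf, hk])
    ((residue CB).comp cB)
    (fun a => by
      refine Ideal.Quotient.eq.2 ?_
      show f (σA (residue A a)) - cB (fA a) ∈ _
      rw [← hf, ← map_sub]
      exact hfmax _ (hσA a))
    (fun c => rfl)
  have hφres : (residue CB).comp φ = (residue CB).comp cB :=
    hom_ext fA fK P E hEA hEK _ _ (fun a => by
      show residue CB (φ (fA a)) = residue CB (cB (fA a))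
      rw [hφA]
      refine Ideal.Quotient.eq.2 ?_
      show f (σA (residue A a)) - cB (fA a) ∈ _
      rw [← hf, ← map_sub]
      exact hfmax _ (hσA a)) (fun c => congrArg _ (hφK c))
  have hφ0 : ∀ b ∈ maximalIdeal B, φ b = 0 := fun b hb => by
    have h1 : (maximalIdeal A).map fA ≤ RingHom.ker φ := Ideal.map_le_iff_le_comap.2 fun a ha => by
      show φ (fA a) = 0
      rw [hφA]
      show f (σA (residue A a)) = 0
      rw [(residue_eq_zero_iff a).2 ha, map_zero, map_zero]
    exact h1 (hmax.symm ▸ hb)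
  let σB : ResidueField B →+* CB := Ideal.Quotient.lift (maximalIdeal B) φ hφ0
  have hσB : ∀ b, σB (residue B b) = φ b := fun b => rfl
  let ι : ResidueField A →+* ResidueField B := ResidueField.map fA
  have hι : ∀ a, ι (residue A a) = residue B (fA a) := fun a => rfl
  let Φ : SB →+* CB := CohenLib.psHom (maximalIdeal CB) σB (fun i => f (ΦA (MvPowerSeries.X i)))
    (fun i => hfmax _ (hxA i))
  have hΦC : ∀ c, Φ (MvPowerSeries.C c) = σB c := fun c => CohenLib.psHom_C _ _ _ _ c
  have hΦX : ∀ i, Φ (MvPowerSeries.X i) = f (ΦA (MvPowerSeries.X i)) := fun i => CohenLib.psHom_X _ _ _ _ i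
  have hcompat : Φ.comp (MvPowerSeries.map ι) = f.comp ΦA := by
    refine eq_of_forall_pow (maximalIdeal CB) _ _ (fun i => ?_) (fun c => ?_) (fun i => ?_)
    · show Φ (MvPowerSeries.map ι (MvPowerSeries.X i)) ∈ _
      rw [MvPowerSeries.map_X, hΦX]
      exact hfmax _ (hxA i)
    · obtain ⟨a, rfl⟩ := residue_surjective c
      show Φ (MvPowerSeries.map ι (MvPowerSeries.C (residue A a))) = f (σA (residue A a))
      rw [MvPowerSeries.map_C, hΦC, hι, hσB, hφA]
      rfl
    · show Φ (MvPowerSeries.map ι (MvPowerSeries.X i)) = _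
      rw [MvPowerSeries.map_X, hΦX]
      rfl
  let IB : Ideal SB := Ideal.span (Set.range fun j => MvPowerSeries.map ι (g j))
  let QB := SB ⧸ IB
  have hIB : ∀ x ∈ IB, Φ x = 0 := by
    refine fun x hx => (Ideal.span_le.2 ?_ : IB ≤ RingHom.ker Φ) hx
    rintro _ ⟨j, rfl⟩
    show Φ (MvPowerSeries.map ι (g j)) = 0
    rw [← RingHom.comp_apply, hcompat]
    show f (e (Ideal.Quotient.mk IA (g j))) = 0
    rw [show Ideal.Quotient.mk IA (g j) = 0 from Ideal.Quotient.eq_zero_iff_mem.2 (Ideal.subset_span (Set.mem_range_self j)), map_zero, map_zero]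
  let Ψ : QB →+* CB := Ideal.Quotient.lift IB Φ hIB
  haveI : Nontrivial QB := Ψ.domain_nontrivial
  haveI : IsLocalRing QB := IsLocalRing.of_surjective' _ Ideal.Quotient.mk_surjective
  haveI : IsNoetherianRing SB := CohenLib.isNoetherianRing_mvPowerSeries (ResidueField B)
  haveI : IsAdicComplete (maximalIdeal SB) SB := by
    rw [CohenLib.maximalIdeal_mvPowerSeries, show maximalIdeal (ResidueField B) = ⊥ from
      IsLocalRing.isField_iff_maximalIdeal_eq.1 (Field.toIsField _), Ideal.map_bot, bot_sup_eq]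
    exact CohenLib.isAdicComplete_varsIdeal (ResidueField B)
  haveI : Module.Finite SB QB :=
    Module.Finite.of_surjective (Algebra.linearMap SB QB) Ideal.Quotient.mk_surjective
  haveI : IsAdicComplete (maximalIdeal QB) QB := AdicFSLib.isAdicComplete_of_finite_local SB QB
  have hXB : ∀ i, Ideal.Quotient.mk IB (MvPowerSeries.X i) ∈ maximalIdeal QB := fun i => by
    rw [← IsLocalRing.map_maximalIdeal_of_surjective _ Ideal.Quotient.mk_surjective]
    refine Ideal.mem_map_of_mem _ ?_
    rw [CohenLib.maximalIdeal_mvPowerSeries]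
    exact Ideal.mem_sup_right (Ideal.subset_span ⟨i, rfl⟩)
  let μ : QA →+* QB := Ideal.Quotient.lift IA ((Ideal.Quotient.mk IB).comp (MvPowerSeries.map ι)) (by
    refine fun x hx => (Ideal.span_le.2 ?_ : IA ≤ RingHom.ker ((Ideal.Quotient.mk IB).comp (MvPowerSeries.map ι))) hx
    rintro _ ⟨j, rfl⟩
    exact Ideal.Quotient.eq_zero_iff_mem.2 (Ideal.subset_span ⟨j, rfl⟩))
  have hμ : ∀ x, μ (Ideal.Quotient.mk IA x) = Ideal.Quotient.mk IB (MvPowerSeries.map ι x) := fun x => rfl
  have hμmax : ∀ x ∈ maximalIdeal QA, μ x ∈ maximalIdeal QB := by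
    have h1 : (maximalIdeal QA).map μ ≤ maximalIdeal QB := by
      rw [← IsLocalRing.map_maximalIdeal_of_surjective _ (Ideal.Quotient.mk_surjective (I := IA)),
        Ideal.map_map, CohenLib.maximalIdeal_mvPowerSeries, show maximalIdeal (ResidueField A) = ⊥ from
          IsLocalRing.isField_iff_maximalIdeal_eq.1 (Field.toIsField _), Ideal.map_bot, bot_sup_eq,
        CohenLib.varsIdeal, Ideal.map_span, Ideal.span_le]
      rintro _ ⟨_, ⟨i, rfl⟩, rfl⟩
      show μ (Ideal.Quotient.mk IA (MvPowerSeries.X i)) ∈ maximalIdeal QB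
      rw [hμ, MvPowerSeries.map_X]
      exact hXB i
    exact fun x hx => h1 (Ideal.mem_map_of_mem μ hx)
  have hes : ∀ a, e.symm (cA a) - Ideal.Quotient.mk IA (MvPowerSeries.C (residue A a)) ∈ maximalIdeal QA := fun a => by
    have h1 := Ideal.mem_map_of_mem e.symm.toRingHom (neg_mem (hσA a))
    rw [hmE'] at h1
    simpa [σA, ΦA] using h1
  -- the inverse
  obtain ⟨h, hhA, hhK⟩ := exists_lift fA fK P E hEA hEK (S := QB) ((μ.comp e.symm.toRingHom).comp cA)
    (((Ideal.Quotient.mk IB).comp MvPowerSeries.C).comp ((residue B).comp fK))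
    (fun c => by
      show μ (e.symm (cA (algebraMap k A c))) = Ideal.Quotient.mk IB (MvPowerSeries.C (residue B (fK (algebraMap k K c))))
      rw [show cA (algebraMap k A c) = e (Ideal.Quotient.mk IA (MvPowerSeries.C (residue A (algebraMap k A c)))) from
        (hek c).symm, RingEquiv.symm_apply_apply, hμ, MvPowerSeries.map_C, hι, hk])
    ((residue QB).comp (((Ideal.Quotient.mk IB).comp MvPowerSeries.C).comp (residue B)))
    (fun a => by
      refine Ideal.Quotient.eq.2 ?_
      show μ (e.symm (cA a)) - Ideal.Quotient.mk IB (MvPowerSeries.C (residue B (fA a))) ∈ _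
      rw [← hι, ← MvPowerSeries.map_C, ← hμ, ← map_sub]
      exact hμmax _ (hes a))
    (fun c => rfl)
  have hhmax : (maximalIdeal B).map h ≤ maximalIdeal QB := by
    rw [← hmax, Ideal.map_map, Ideal.map_le_iff_le_comap]
    intro a ha
    refine Ideal.mem_comap.2 ?_
    show h (fA a) ∈ maximalIdeal QB
    rw [hhA]
    refine hμmax _ ?_
    rw [← hmE', ← hmA, Ideal.map_map]
    exact Ideal.mem_map_of_mem _ ha
  let h' : CB →+* QB := CompleteLib.completionLift (maximalIdeal B) (maximalIdeal QB) h hhmax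
  have hh' : ∀ b, h' (cB b) = h b := fun b => CompleteLib.completionLift_algebraMap _ _ _ _ b
  have hh'f : h'.comp f = μ.comp e.symm.toRingHom := by
    refine CompleteLib.completion_hom_ext (K := maximalIdeal A) (J := maximalIdeal QB) (IsNoetherian.noetherian _) _ _
      (Ideal.map_le_iff_le_comap.2 fun a ha => ?_) (fun a => ?_)
    · refine Ideal.mem_comap.2 ?_
      show h' (f (cA a)) ∈ maximalIdeal QB
      rw [hf, hh']
      exact hhmax (Ideal.mem_map_of_mem h (hmax ▸ Ideal.mem_map_of_mem fA ha))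
    · show h' (f (cA a)) = _
      rw [hf, hh', hhA]
      rfl
  have hh'φ : h'.comp φ = ((Ideal.Quotient.mk IB).comp MvPowerSeries.C).comp (residue B) :=
    hom_ext fA fK P E hEA hEK _ _ (fun a => by
      show h' (φ (fA a)) = Ideal.Quotient.mk IB (MvPowerSeries.C (residue B (fA a)))
      rw [hφA, RingHom.comp_apply, RingHom.comp_apply]
      rw [← RingHom.comp_apply h' f, hh'f]
      show μ (e.symm (e (Ideal.Quotient.mk IA (MvPowerSeries.C (residue A a))))) = _
      rw [RingEquiv.symm_apply_apply, hμ, MvPowerSeries.map_C, hι])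
      (fun c => by
        show h' (φ (fK c)) = _
        rw [hφK, RingHom.comp_apply, hh', hhK]
        rfl)
  have hleft : ∀ q, h' (Ψ q) = q := fun q => by
    obtain ⟨x, rfl⟩ := Ideal.Quotient.mk_surjective q
    refine RingHom.congr_fun (eq_of_forall_pow (maximalIdeal QB) (h'.comp Φ) (Ideal.Quotient.mk IB)
      (fun i => ?_) (fun c => ?_) (fun i => ?_)) x
    · show h' (Φ (MvPowerSeries.X i)) ∈ _
      rw [hΦX, ← RingHom.comp_apply h' f, hh'f]
      refine hμmax _ ?_
      show e.symm (e _) ∈ _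
      rw [RingEquiv.symm_apply_apply]
      exact hXQ i
    · obtain ⟨b, rfl⟩ := residue_surjective c
      show h' (Φ (MvPowerSeries.C (residue B b))) = _
      rw [hΦC, hσB]
      exact RingHom.congr_fun hh'φ b
    · show h' (Φ (MvPowerSeries.X i)) = _
      rw [hΦX, ← RingHom.comp_apply h' f, hh'f]
      show μ (e.symm (e (Ideal.Quotient.mk IA (MvPowerSeries.X i)))) = _
      rw [RingEquiv.symm_apply_apply, hμ, MvPowerSeries.map_X]
  have hΨμ : ∀ q, Ψ (μ q) = f (e q) := fun q => by
    obtain ⟨x, rfl⟩ := Ideal.Quotient.mk_surjective q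
    exact RingHom.congr_fun hcompat x
  have hΨh : Ψ.comp h = cB := hom_ext fA fK P E hEA hEK _ _ (fun a => by
      show Ψ (h (fA a)) = cB (fA a)
      rw [hhA, RingHom.comp_apply, RingHom.comp_apply, hΨμ]
      show f (e (e.symm (cA a))) = _
      rw [RingEquiv.apply_symm_apply, hf])
    (fun c => by
      show Ψ (h (fK c)) = cB (fK c)
      rw [hhK]
      show Φ (MvPowerSeries.C (residue B (fK c))) = _
      rw [hΦC, hσB, hφK]
      rfl)
  have hright : Ψ.comp h' = RingHom.id CB := by
    refine CompleteLib.completion_hom_ext (K := maximalIdeal B) (J := maximalIdeal CB) (IsNoetherian.noetherian _) _ _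
      (Ideal.map_le_iff_le_comap.2 fun b hb => ?_) (fun b => ?_)
    · refine Ideal.mem_comap.2 ?_
      show Ψ (h' (cB b)) ∈ maximalIdeal CB
      rw [hh', ← RingHom.comp_apply, hΨh]
      exact hcBmem b hb
    · show Ψ (h' (cB b)) = cB b
      rw [hh', ← RingHom.comp_apply, hΨh]
  refine ⟨RingEquiv.ofRingHom Ψ h' hright (RingHom.ext hleft), fun c => ?_, fun b => ?_⟩
  · show Φ (MvPowerSeries.C (residue B (fK c))) = _
    rw [hΦC, hσB, hφK]
    rfl
  · show Φ (MvPowerSeries.C (residue B b)) - cB b ∈ _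
    rw [hΦC, hσB, hmB]
    exact Ideal.Quotient.eq.1 (RingHom.congr_fun hφres b)

end ComplBCLib
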