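import Groth.Agent.DeltaBaseLib.Model
import Groth.Agent.DeltaBaseLib.Res

/-!
# The local rings of `X_K`, with both factors
-/

set_option autoImplicit false
set_option backward.isDefEq.respectTransparency false
set_option linter.style.haveILetI false

universe u

open CategoryTheory CategoryTheory.Limits AlgebraicGeometry IsLocalRing TensorProduct GeomRedFieldLib

noncomputable section

namespace ComplBCLib

variable (k : Type u) [Field k] {X : Scheme.{u}} [X.Over (Spec (CommRingCat.of k))]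
  (K : Type u) [Field K] [Algebra k K]

/-- The local ring of `X_K` at `y` as a localisation of `O_{X,x} ⊗ K`, compatibly with both factors. -/
theorem exists_model (y : Curv2.bc k X K) :
    letI := Curv2.stalkAlgebra k X (Curv2.bcFst k X K y)
    letI : (Curv2.bc k X K).Over (Spec (CommRingCat.of K)) := ⟨Curv2.bcSnd k X K⟩
    ∃ (P : Ideal (X.presheaf.stalk (Curv2.bcFst k X K y) ⊗[k] K)) (_ : P.IsPrime)
      (E : (Curv2.bc k X K).presheaf.stalk y ≃+* Localization.AtPrime P),
        (∀ a, E (((Curv2.bcFst k X K).stalkMap y).hom a) =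
          algebraMap (X.presheaf.stalk (Curv2.bcFst k X K y) ⊗[k] K) _ (a ⊗ₜ 1)) ∧
        ∀ c, E (Curv2.stalkMap K (Curv2.bc k X K) y c) =
          algebraMap (X.presheaf.stalk (Curv2.bcFst k X K y) ⊗[k] K) _ (1 ⊗ₜ c) := by
  let x := Curv2.bcFst k X K y
  letI := Curv2.stalkAlgebra k X x
  letI : (Curv2.bc k X K).Over (Spec (CommRingCat.of K)) := ⟨Curv2.bcSnd k X K⟩
  let A := X.presheaf.stalk x
  have hR : X.fromSpecStalk x ≫ (X ↘ Spec (CommRingCat.of k)) = str k A := fromSpecStalk_comp_over X x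
  haveI := AlgSpLib.flat_fromSpecStalk x
  let m : pullback (str k A) (str k K) ⟶ Curv2.bc k X K :=
    pullback.map _ _ _ _ (X.fromSpecStalk x) (𝟙 _) (𝟙 _) (by simp [hR, A]) (by simp)
  have hm2 : m ≫ Curv2.bcSnd k X K = pullback.snd (str k A) (str k K) :=
    (pullback.lift_snd _ _ _).trans (Category.comp_id _)
  have sq : IsPullback m (pullback.fst (str k A) (str k K)) (Curv2.bcFst k X K) (X.fromSpecStalk x) := by
    refine (IsPullback.of_bot (v₂₁ := Curv2.bcSnd k X K) (h₃₁ := str k K)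
      (v₂₂ := X ↘ Spec (CommRingCat.of k)) ?_
      (pullback.lift_fst _ _ _).symm (IsPullback.of_hasPullback _ _)).flip
    rw [hm2, hR]
    exact IsPullback.of_hasPullback _ _
  haveI : Flat m := MorphismProperty.of_isPullback sq.flip ‹_›
  haveI : IsPreimmersion m := MorphismProperty.of_isPullback sq.flip inferInstance
  let e : Spec (CommRingCat.of (A ⊗[k] K)) ≅ pullback (str k A) (str k K) := (pullbackSpecIso k A K).symm
  let j : Spec (CommRingCat.of (A ⊗[k] K)) ⟶ Curv2.bc k X K := e.hom ≫ m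
  let ι₁ : CommRingCat.of A ⟶ CommRingCat.of (A ⊗[k] K) :=
    CommRingCat.ofHom (algebraMap A (A ⊗[k] K))
  let ι₂ : CommRingCat.of K ⟶ CommRingCat.of (A ⊗[k] K) :=
    CommRingCat.ofHom (Algebra.TensorProduct.includeRight (R := k) (A := A) (B := K)).toRingHom
  have hj1 : j ≫ Curv2.bcFst k X K = Spec.map ι₁ ≫ X.fromSpecStalk x := by
    simp only [j, Category.assoc, sq.w, e, Iso.symm_hom, pullbackSpecIso_inv_fst_assoc]
    rfl
  have hj2 : j ≫ Curv2.bcSnd k X K = Spec.map ι₂ := by
    simp only [j, Category.assoc, hm2, e, Iso.symm_hom, pullbackSpecIso_inv_snd]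
    rfl
  obtain ⟨v, hv, -⟩ := Scheme.exists_preimage_of_isPullback sq y (closedPoint _)
    Scheme.fromSpecStalk_closedPoint.symm
  obtain ⟨P, rfl⟩ : ∃ P, e.hom P = v := ⟨e.inv v, by rw [← Scheme.Hom.comp_apply, e.inv_hom_id]; rfl⟩
  have hjy : j P = y := by rw [Scheme.Hom.comp_apply]; exact hv
  let L := CommRingCat.of (Localization.AtPrime P.asIdeal)
  let φ : (Curv2.bc k X K).presheaf.stalk y ⟶ L :=
    ((Curv2.bc k X K).presheaf.stalkCongr (.of_eq hjy.symm)).hom ≫ j.stalkMap P ≫
      (Spec.stalkIso (CommRingCat.of (A ⊗[k] K)) P).hom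
  haveI : IsIso (j.stalkMap P) :=
    (ConcreteCategory.isIso_iff_bijective _).2 (SweepSix.FieldsRed.isIso_stalkMap j P)
  haveI : IsIso φ := inferInstance
  have hφ : Spec.map φ ≫ (Curv2.bc k X K).fromSpecStalk y =
      Spec.map (CommRingCat.ofHom (algebraMap (A ⊗[k] K) L)) ≫ j := by
    simp only [φ, Spec.map_comp, Category.assoc, TopCat.Presheaf.stalkCongr_hom,
      Scheme.SpecMap_stalkSpecializes_fromSpecStalk, Scheme.SpecMap_stalkMap_fromSpecStalk]
    rw [← Category.assoc, specMap_stalkIso_fromSpecStalk]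
  have h1 : (Curv2.bcFst k X K).stalkMap y ≫ φ = ι₁ ≫ CommRingCat.ofHom (algebraMap (A ⊗[k] K) L) := by
    apply Spec.map_injective
    rw [← cancel_mono (X.fromSpecStalk x)]
    simp only [Spec.map_comp, Category.assoc]
    rw [Scheme.SpecMap_stalkMap_fromSpecStalk, ← Category.assoc, hφ, Category.assoc, hj1]
  have h2 : CommRingCat.ofHom (Curv2.stalkMap K (Curv2.bc k X K) y) ≫ φ =
      ι₂ ≫ CommRingCat.ofHom (algebraMap (A ⊗[k] K) L) := by
    apply Spec.map_injective
    rw [Spec.map_comp (CommRingCat.ofHom (Curv2.stalkMap K (Curv2.bc k X K) y)) φ, Spec.map_comp ι₂, ← fromSpecStalk_comp_over (Curv2.bc k X K) y, ← Category.assoc, hφ,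
      Category.assoc]
    exact congrArg (_ ≫ ·) hj2
  refine ⟨P.asIdeal, P.isPrime, (asIso φ).commRingCatIsoToRingEquiv, fun a => ?_, fun c => ?_⟩
  · exact congrArg (fun t : X.presheaf.stalk x ⟶ L => t.hom a) h1
  · exact congrArg (fun t : CommRingCat.of K ⟶ L => t.hom c) h2

end ComplBCLib

end
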